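import Groth.Agent.Surf.K379.Fib
import Groth.Agent.Surf.K464.Comp
import Groth.Agent.Surf.K458.FibZar
import Groth.Agent.S7802
import Groth.Agent.Variety.K593.Goodman

/-!
# The lattice of an ample class, a fibre and the components of fibres (K159)

`rank`: for a fibration of a smooth proper surface over a curve and finitely many closed fibres, the Gram
determinant of (ample class, fibre, all components but one of each fibre) is nonzero (Zariski's lemma), so that
there are `2 + ∑ (r_s - 1)` classes with nonzero Gram determinant.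
-/

set_option autoImplicit false
universe u
open CategoryTheory CategoryTheory.Limits AlgebraicGeometry TopologicalSpace

namespace K159.Lat

open Groth.Agent Groth.Agent.Grpsch.PicGrp
open K464.Base K464.Curves K464.DegCurve K464.Cohom K464.PtCurve K464.FibCurve K464.DivLat K464.NegDef
open K458.FibZar K458.ZarLem

section algebra

/-- Blocks of Zariski type with one row and column removed are nondegenerate. -/
theorem eq_zero_of_rows {ι : Type*} [Fintype ι] [DecidableEq ι] {G : ι → ι → ℤ} (hsymm : ∀ i j, G i j = G j i)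
    (hoff : ∀ i j, i ≠ j → 0 ≤ G i j) (hconn : IsConn G) (z : ι → ℤ) (hz : ∀ i, 0 < z i)
    (hrow : ∀ j, ∑ i, z i * G i j = 0) (o : ι) (a : ι → ℤ) (ha : a o = 0)
    (h : ∀ i, i ≠ o → ∑ j, G i j * a j = 0) : a = 0 := by
  have h0 : ∑ i, ∑ j, a i * a j * G i j = 0 := by
    refine Finset.sum_eq_zero fun i _ => ?_
    by_cases hi : i = o
    · subst hi
      refine Finset.sum_eq_zero fun j _ => ?_
      rw [ha, zero_mul, zero_mul]
    · have h1 : ∑ j, a i * a j * G i j = a i * ∑ j, G i j * a j := by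
        rw [Finset.mul_sum]
        exact Finset.sum_congr rfl fun j _ => by ring
      rw [h1, h i hi, mul_zero]
  funext i
  have h1 := proportional hsymm hoff hconn z hz hrow a h0 i o
  rw [ha, zero_mul] at h1
  exact (mul_eq_zero.1 h1).resolve_right (hz o).ne'

variable {P : Type*} (dot : P → P → ℤ)

/-- The Gram matrix of `H`, `F` and the components of finitely many fibres but one of each. -/
theorem det_ne_zero {σ : Type*} [Fintype σ] [DecidableEq σ] (hcomm : ∀ a b, dot a b = dot b a) (H F : P)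
    (hFF : dot F F = 0) (hFH : dot F H ≠ 0) (ι : σ → Type*) [∀ s, Fintype (ι s)] [∀ s, DecidableEq (ι s)]
    (C : ∀ s, ι s → P) (o : ∀ s, ι s) (hFC : ∀ s i, dot F (C s i) = 0)
    (hst : ∀ s t, s ≠ t → ∀ i j, dot (C s i) (C t j) = 0)
    (hoff : ∀ s i j, i ≠ j → 0 ≤ dot (C s i) (C s j)) (hconn : ∀ s, IsConn fun i j => dot (C s i) (C s j))
    (z : ∀ s, ι s → ℤ) (hz : ∀ s i, 0 < z s i) (hrow : ∀ s j, ∑ i, z s i * dot (C s i) (C s j) = 0)
    (L : Option (Option ((s : σ) × {i : ι s // i ≠ o s})) → P) (hL0 : L none = H) (hL1 : L (some none) = F)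
    (hL2 : ∀ s i, L (some (some ⟨s, i⟩)) = C s i.1) :
    (Matrix.of fun x y => dot (L x) (L y)).det ≠ 0 := by
  intro hdet
  obtain ⟨v, hv, hMv⟩ := Matrix.exists_mulVec_eq_zero_iff.2 hdet
  apply hv
  have hM : ∀ x, dot (L x) H * v none + (dot (L x) F * v (some none) +
      ∑ s, ∑ i : {i : ι s // i ≠ o s}, dot (L x) (C s i.1) * v (some (some ⟨s, i⟩))) = 0 := by
    intro x
    have h1 := congrFun hMv x
    rw [Matrix.mulVec, dotProduct, Fintype.sum_option, Fintype.sum_option, Fintype.sum_sigma] at h1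
    simp only [Matrix.of_apply, hL0, hL1, hL2, Pi.zero_apply] at h1
    exact h1
  have h1 : v none = 0 := by
    have h2 := hM (some none)
    rw [hL1, hFF, zero_mul, zero_add, Finset.sum_eq_zero (fun s _ => Finset.sum_eq_zero fun i _ => by
      rw [hFC, zero_mul]), add_zero] at h2
    exact (mul_eq_zero.1 h2).resolve_left hFH
  have h3 : ∀ s i, v (some (some ⟨s, i⟩)) = 0 := by
    intro s
    let a : ι s → ℤ := fun i => if hi : i ≠ o s then v (some (some ⟨s, ⟨i, hi⟩⟩)) else 0
    have ha : a = 0 := by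
      refine eq_zero_of_rows (fun i j => hcomm _ _) (hoff s) (hconn s) (z s) (hz s) (hrow s) (o s) a (by simp [a]) ?_
      intro i hi
      have h4 := hM (some (some ⟨s, ⟨i, hi⟩⟩))
      rw [hL2, h1, mul_zero, zero_add, hcomm _ F, hFC, zero_mul, zero_add] at h4
      rw [Finset.sum_eq_single s] at h4
      · rw [← Fintype.sum_subtype_add_sum_subtype (fun j => j ≠ o s), ← h4]
        have h5 : ∑ j : {j : ι s // ¬ (j ≠ o s)}, dot (C s i) (C s j) * a j = 0 :=
          Finset.sum_eq_zero fun j _ => by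
            have : a j = 0 := by simp only [a, dif_neg j.2]
            rw [this, mul_zero]
        rw [h5, add_zero]
        refine Finset.sum_congr rfl fun j _ => ?_
        simp only [a, dif_pos j.2, Subtype.coe_eta]
      · intro t _ hts
        exact Finset.sum_eq_zero fun j _ => by rw [hst s t hts.symm, zero_mul]
      · intro h; exact absurd (Finset.mem_univ s) h
    rintro ⟨i, hi⟩
    have h4 := congrFun ha i
    simp only [a, dif_pos hi, Pi.zero_apply] at h4
    exact h4
  have h2 : v (some none) = 0 := by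
    have h4 := hM none
    rw [hL0, h1, mul_zero, zero_add, Finset.sum_eq_zero (fun s _ => Finset.sum_eq_zero fun i _ => by
      rw [h3, mul_zero]), add_zero, hcomm] at h4
    exact (mul_eq_zero.1 h4).resolve_left hFH
  funext x
  rcases x with _ | _ | ⟨s, i⟩
  · exact h1
  · exact h2
  · exact h3 s i

end algebra

section main

variable (k : Type u) [Field k] [IsAlgClosed k] {X C : Scheme.{u}} [X.Over (Spec (CommRingCat.of k))]
  [C.Over (Spec (CommRingCat.of k))] (f : X ⟶ C) (g : ℕ)

theorem rank (h : K379.Fib.IsFib k f g) (S : Finset C) (hS : ∀ s ∈ S, IsClosed ({s} : Set C)) :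
    ∃ (r : ℕ) (L : Fin r → Pic X), (Matrix.of fun i j => K464.Base.dot k X (L i) (L j)).det ≠ 0 ∧
      (r : ℤ) = 2 + ∑ s ∈ S, (((K379.Fib.vc f s).ncard : ℤ) - 1) := by
  classical
  have := h.pX
  have := h.sX
  have := h.iX
  have := h.pC
  have := h.sC
  have := h.iC
  have := h.sur
  have : AlgebraicGeometry.IsNoetherian X := CurvesB.CurveRR.isNoetherian_of_proper k X
  have : AlgebraicGeometry.IsNoetherian C := CurvesB.CurveRR.isNoetherian_of_proper k C
  have hregC : ∀ b : C, IsRegularLocalRing (C.presheaf.stalk b) := fun b => S1535.result k C b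
  have hptE : ∀ {b : C} (hb : IsClosed ({b} : Set C)), BlowUp.IsEffCartierIdeal (pt hb) := fun hb =>
    isEff_pt k (C ↘ Spec (CommRingCat.of k)) h.dC hregC hb
  have hFE : ∀ {b : C} (hb : IsClosed ({b} : Set C)), BlowUp.IsEffCartierIdeal ((pt hb).comap f) := fun hb =>
    isEff_fibre f h.dC hb (hptE hb)
  obtain ⟨q₀, hq₀, -⟩ := h.fib
  -- an ample class
  obtain ⟨H, hH⟩ : ∃ H : X.Modules, CohB1.IsAmple H := by
    obtain ⟨U, hU, hxU⟩ := exists_isAffineOpen_mem_and_subset (X := X) (x := genericPoint X) (U := ⊤) trivial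
    obtain ⟨I, hI, -, hL⟩ := S7802.result k X (X ↘ Spec (CommRingCat.of k)) h.dX (fun x => S1535.result k X x)
      ⟨U, hU⟩ ⟨_, hxU.1⟩
    obtain ⟨L, h1, h2⟩ := K593.Goodman.exists_inverse' hI
    exact ⟨L, hL L h1 h2⟩
  set F : Pic X := pull f (ic (pt hq₀) (hptE hq₀)) with hF
  have hdec := fun s : S => exists_decomp k f h.ovr h.dX h.dC h.conn (hS s.1 s.2)
  choose r D n hE hC hinj hn hcyc hconn hrow using hdec
  -- the curves in the fibres
  have hrange : ∀ s : S, Set.range (D s) = K379.Fib.vc f s.1 := by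
    intro s
    ext E
    constructor
    · rintro ⟨i, rfl⟩
      refine ⟨(hC s i).integral, (hC s i).dim, ?_⟩
      rw [← support_fibre f (hS s.1 s.2), hcyc s, support_subset_iff (hC s i),
        gp_mem_support_cyc_iff (hC s) (hinj s)]
      exact (hn s i).ne'
    · rintro ⟨h1, h2, h3⟩
      have hE' : IsCurve E := ⟨h1, h2⟩
      rw [← support_fibre f (hS s.1 s.2), hcyc s] at h3
      obtain ⟨i, hi⟩ := Set.mem_iUnion.1 (support_cyc_subset (C := D s) (n s) (h3 (gp_mem hE')))
      exact ⟨i, (eq_of_gp_mem hE' (hC s i) hi).symm⟩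
  have hcard : ∀ s : S, (K379.Fib.vc f s.1).ncard = r s := by
    intro s
    rw [← hrange s, ← Set.image_univ, Set.ncard_image_of_injective _ (hinj s), Set.ncard_univ, Nat.card_fin]
  have hpos : ∀ s : S, 0 < r s := by
    intro s
    obtain ⟨x, hx⟩ := f.surjective s.1
    have hx' : x ∈ (((pt (hS s.1 s.2)).comap f).support : Set X) := by rw [support_fibre]; exact hx
    rw [hcyc s] at hx'
    obtain ⟨i, -⟩ := Set.mem_iUnion.1 (support_cyc_subset (C := D s) (n s) hx')
    exact i.pos
  have hle : ∀ (s : S) (i), (pt (hS s.1 s.2)).comap f ≤ D s i := by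
    intro s i
    rw [hcyc s, le_iff_gp_mem (hC s i), gp_mem_support_cyc_iff (hC s) (hinj s)]
    exact (hn s i).ne'
  -- the intersection numbers
  have hFC : ∀ (s : S) (i), dot k X F (ic (D s i) (hE s i)) = 0 := by
    intro s i
    rw [dot_comm, dot_ic_eq, degOn_pull_eq_zero k f h.ovr (hS s.1 s.2) (hle s i), neg_zero]
  have hFF : dot k X F F = 0 := dot_pull_pull k f h.ovr h.dX.le h.dC hregC _ _
  have hFH : dot k X F (mk H hH.1) ≠ 0 := by
    rw [hF, pull_ic f (hptE hq₀) (hFE hq₀), dot_ic_eq]
    have h1 : (pt hq₀).comap f ≠ ⊤ := by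
      intro htop
      obtain ⟨x, hx⟩ := f.surjective q₀
      have hx' : x ∈ (((pt hq₀).comap f).support : Set X) := by rw [support_fibre]; exact hx
      rw [htop, Scheme.IdealSheafData.support_top] at hx'
      exact hx'
    have h2 := K464.Comp.degOn_pos_of_ample_eff k h.dX hH.1 hH (hFE hq₀) h1
    omega
  have hst : ∀ s t : S, s ≠ t → ∀ i j, dot k X (ic (D s i) (hE s i)) (ic (D t j) (hE t j)) = 0 := by
    intro s t hst i j
    rw [dot_ic_eq, degOn_ic_eq_zero k (hC s i) (hE t j), neg_zero]
    have h1 : ((D s i).support : Set X) ⊆ f ⁻¹' {s.1} := ((hrange s).subset ⟨i, rfl⟩).2.2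
    have h2 : ((D t j).support : Set X) ⊆ f ⁻¹' {t.1} := ((hrange t).subset ⟨j, rfl⟩).2.2
    exact Set.disjoint_left.2 fun x hx hx' => hst (Subtype.ext ((h1 hx).symm.trans (h2 hx')))
  let o : ∀ s : S, Fin (r s) := fun s => ⟨0, hpos s⟩
  let L : Option (Option ((s : S) × {i : Fin (r s) // i ≠ o s})) → Pic X := fun x =>
    match x with
    | none => mk H hH.1
    | some none => F
    | some (some x) => ic (D x.1 x.2.1) (hE x.1 x.2.1)
  have hdet := det_ne_zero (dot k X) (dot_comm k X) (mk H hH.1) F hFF hFH (fun s : S => Fin (r s))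
    (fun s i => ic (D s i) (hE s i)) o hFC hst (fun s i j hij => gram_nonneg k (hE s) (hC s) (hinj s) i j hij)
    (fun s => hconn s) (fun s i => (n s i : ℤ)) (fun s i => by exact_mod_cast hn s i) (fun s j => hrow s j)
    L rfl rfl (fun _ _ => rfl)
  let e := Fintype.equivFin (Option (Option ((s : S) × {i : Fin (r s) // i ≠ o s})))
  refine ⟨_, fun i => L (e.symm i), ?_, ?_⟩
  · rw [← Matrix.det_submatrix_equiv_self e.symm] at hdet
    exact hdet
  · have hk : ∀ s : S, (Fintype.card {i : Fin (r s) // i ≠ o s} : ℤ) = ((K379.Fib.vc f s.1).ncard : ℤ) - 1 := by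
      intro s
      rw [hcard s, Fintype.card_subtype_compl, Fintype.card_subtype_eq, Fintype.card_fin, Nat.cast_sub (hpos s)]
      rfl
    rw [Fintype.card_option, Fintype.card_option, Fintype.card_sigma, ← Finset.sum_coe_sort S]
    push_cast
    rw [Finset.sum_congr rfl fun s _ => hk s]
    ring

end main

end K159.Lat
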