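import Groth.Agent.S0209
import Mathlib.RingTheory.MvPolynomial.Homogeneous
import Mathlib.Tactic

/-!
# A ternary quadric and a discriminant quartic have a common zero (K159)

Over an algebraically closed field of characteristic zero, for ternary quadratic forms `τ, α, β, γ` there are `c ≠ 0`
and a linear form `l₀ x + l₁ y` with `τ(c) = 0` and `α(c) x² + β(c) x y + γ(c) y² = (l₀ x + l₁ y)²`.
-/

set_option autoImplicit false

namespace K159.QuadZero

open MvPolynomial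

/-- The quadratic form of a square array. -/
noncomputable def qf {k : Type*} [Field k] (m : Fin 3 → Fin 3 → k) : MvPolynomial (Fin 3) k :=
  ∑ i, ∑ j, X i * X j * C (m i j)

theorem isHomogeneous_qf {k : Type*} [Field k] (m : Fin 3 → Fin 3 → k) : (qf m).IsHomogeneous 2 := by
  refine IsHomogeneous.sum _ _ _ fun i _ => IsHomogeneous.sum _ _ _ fun j _ => ?_
  exact ((isHomogeneous_X k i).mul (isHomogeneous_X k j)).mul (isHomogeneous_C _ (m i j))

theorem eval_qf {k : Type*} [Field k] (m : Fin 3 → Fin 3 → k) (c : Fin 3 → k) :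
    eval c (qf m) = ∑ i, ∑ j, c i * c j * m i j := by
  simp [qf]

theorem exists_zero {k : Type*} [Field k] [IsAlgClosed k] [CharZero k] (τ α β γ : Fin 3 → Fin 3 → k) :
    ∃ (c : Fin 3 → k) (l₀ l₁ : k), c ≠ 0 ∧ ∑ i, ∑ j, c i * c j * τ i j = 0 ∧
      ∑ i, ∑ j, c i * c j * α i j = l₀ ^ 2 ∧ ∑ i, ∑ j, c i * c j * β i j = 2 * l₀ * l₁ ∧
      ∑ i, ∑ j, c i * c j * γ i j = l₁ ^ 2 := by
  have hD : (qf β ^ 2 - C 4 * (qf α * qf γ)).IsHomogeneous 4 :=
    ((isHomogeneous_qf β).pow 2).sub (by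
      have := (isHomogeneous_C (Fin 3) (4 : k)).mul ((isHomogeneous_qf α).mul (isHomogeneous_qf γ))
      simpa using this)
  obtain ⟨c, hc, h⟩ := Groth.Agent.S0209.result k 2 3 ![qf τ, qf β ^ 2 - C 4 * (qf α * qf γ)] ![2, 4]
    (by
      intro ρ
      fin_cases ρ
      · exact isHomogeneous_qf τ
      · exact hD)
    (by
      intro ρ
      fin_cases ρ <;> simp)
    (by simp)
  have h0 : eval c (qf τ) = 0 := h 0
  have h1 : eval c (qf β ^ 2 - C 4 * (qf α * qf γ)) = 0 := h 1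
  rw [map_sub, map_mul, map_mul, map_pow, eval_C] at h1
  rw [eval_qf] at h0
  simp only [eval_qf] at h1
  obtain ⟨l₀, hl₀⟩ := IsAlgClosed.exists_pow_nat_eq (∑ i, ∑ j, c i * c j * α i j) (n := 2) (by norm_num)
  obtain ⟨l₁, hl₁⟩ := IsAlgClosed.exists_pow_nat_eq (∑ i, ∑ j, c i * c j * γ i j) (n := 2) (by norm_num)
  have h2 : (∑ i, ∑ j, c i * c j * β i j) ^ 2 = (2 * l₀ * l₁) ^ 2 := by
    rw [← hl₀, ← hl₁] at h1
    linear_combination h1
  rcases sq_eq_sq_iff_eq_or_eq_neg.1 h2 with h3 | h3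
  · exact ⟨c, l₀, l₁, hc, h0, hl₀.symm, h3, hl₁.symm⟩
  · exact ⟨c, l₀, -l₁, hc, h0, hl₀.symm, by rw [h3]; ring, by rw [neg_sq]; exact hl₁.symm⟩

end K159.QuadZero
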